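import Cfsg.Agent.Lib.CosetEnum.Defs

/-! Generated table data. -/

set_option autoImplicit false
set_option maxRecDepth 20000

namespace Cfsg.Lib.CosetEnum.ONJone2

/-- Table data. -/
def tabZ_0_0 : Tab :=
  (.leaf 0x5000000000000000003000000000000000000000000000000000000000000000000000002000000000000000003000000000000000000000000000000000000000000000000000002000000000000000001000000000000000000000000000000000000000000000000000000000000000000000001000000000000000000000000000000000000000000000000000000000000000000000004)

/-- Table data. -/
def tabZ_0 : Tab :=
  tabZ_0_0

end Cfsg.Lib.CosetEnum.ONJone2
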